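import Cfsg.Agent.Lib.MetaTwoClosed.Main
import Cfsg.Agent.Lib.PGroup.MetacyclicAction

/-! Strongly closed metacyclic `2`-subgroups lie in every essential subgroup. -/

set_option autoImplicit false
set_option linter.unusedSectionVars false

namespace CfsgLib.MetaTwoClosed

open Cfsg Cfsg.FusionSystem

variable {Ω : Type*} [Group Ω] {S : Subgroup Ω} [Finite S] {F : FusionSystem S} {P R : Subgroup Ω}

/-- A subgroup normalized by `R` and not inside it meets the normalizer of `R` outside `R`. -/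
theorem exists_step (hS : IsPGroup 2 S) (hRS : R ≤ S) {W : Subgroup Ω} (hWS : W ≤ S)
    (hRW : R ≤ Subgroup.normalizer (W : Set Ω)) (hW : ¬ W ≤ R) :
    ∃ w ∈ W, w ∈ Subgroup.normalizer (R : Set Ω) ∧ w ∉ R := by
  haveI : Fact (Nat.Prime 2) := ⟨Nat.prime_two⟩
  have hlt : R < R ⊔ W := lt_of_le_of_ne le_sup_left fun e => hW (le_sup_right.trans e.ge)
  have hle : R ⊔ W ≤ S := sup_le hRS hWS
  haveI := finite_of_le hle
  obtain ⟨x, hx, hxR⟩ := SetLike.exists_of_lt (lt_normalizerIn (hS.to_le hle) hlt)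
  have hx1 : x ∈ (↑(R ⊔ W) : Set Ω) := hx.1
  rw [Subgroup.coe_mul_of_left_le_normalizer_right R W hRW] at hx1
  obtain ⟨r, hr, w, hw, rfl⟩ := hx1
  refine ⟨w, hw, ?_, fun hwR => hxR (R.mul_mem hr hwR)⟩
  have := Subgroup.mul_mem _ (Subgroup.inv_mem _ (Subgroup.le_normalizer hr : r ∈ Subgroup.normalizer (R : Set Ω))) hx.2
  simpa [mul_assoc] using this

/-- A strongly closed metacyclic subgroup that is not dihedral, quaternion or semidihedral lies in every
essential subgroup. -/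
theorem le_essential (hS : IsPGroup 2 S) (hF : F.IsSaturated 2) (hP : F.StronglyClosed P) (hm : Cfsg.IsMetacyclic ↥P)
    (hclass : ∀ k : ℕ, 3 ≤ k → Nat.card P = 2 ^ k → Group.nilpotencyClass ↥P ≠ k - 1)
    (hR : F.IsEssential 2 R) : P ≤ R := by
  classical
  haveI : Fact (Nat.Prime 2) := ⟨Nat.prime_two⟩
  by_contra hPR
  have hc := hR.1
  have hr := hR.isRadical hS hF
  have hRS := hc.1
  haveI : Finite P := finite_of_le hP.1
  haveI : Finite ↥(P ⊓ R) := finite_of_le (inf_le_right.trans hRS)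
  obtain ⟨g, hgP, hgN, hgR⟩ := exists_step hS hRS hP.1 (hRS.trans hP.le_normalizer) hPR
  set X : Subgroup P := (P ⊓ R).subgroupOf P with hXdef
  have hXmem : ∀ {x : P}, x ∈ X ↔ (x : Ω) ∈ R := fun {x} => ⟨fun h => h.2, fun h => ⟨x.2, h⟩⟩
  let e0 : ↥X ≃* ↥(P ⊓ R) := Subgroup.subgroupOfEquivOfLe inf_le_left
  obtain ⟨hAut, -⟩ := key hS hP hc hr hgP hgN hgR
  have hAutX : ¬ IsPGroup 2 (MulAut X) := fun h => hAut (h.of_equiv (MulAut.congr e0))
  have hPp : IsPGroup 2 P := hS.to_le hP.1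
  -- normalizers and commutators
  have hnorm : ∀ {w : Ω} (hw : w ∈ P), w ∈ Subgroup.normalizer (R : Set Ω) →
      (⟨w, hw⟩ : P) ∈ Subgroup.normalizer (X : Set P) := by
    intro w hw hwN
    refine Subgroup.mem_normalizer_iff.mpr fun x => ?_
    rw [hXmem, hXmem]
    exact Subgroup.mem_normalizer_iff.mp hwN x
  have hkey : ∀ {w : Ω} (hw : w ∈ P), w ∈ Subgroup.normalizer (R : Set Ω) → w ∉ R →
      ∃ u ∈ X, ∀ t ∈ X, t ^ 2 ≠ (⟨w, hw⟩ : P) * u * (⟨w, hw⟩ : P)⁻¹ * u⁻¹ := by
    intro w hw hwN hwR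
    obtain ⟨-, u, hu⟩ := key hS hP hc hr hw hwN hwR
    refine ⟨⟨u, u.2.1⟩, hXmem.mpr u.2.2, fun t ht he => ?_⟩
    have hcj : w * (u : Ω) * w⁻¹ ∈ P ⊓ R := ⟨P.mul_mem (P.mul_mem hw u.2.1) (P.inv_mem hw),
      (Subgroup.mem_normalizer_iff.mp hwN _).mp u.2.2⟩
    refine hu hcj ?_
    have : (⟨_, hcj⟩ : ↥(P ⊓ R)) * u⁻¹ = (⟨t, t.2, hXmem.mp ht⟩ : ↥(P ⊓ R)) ^ 2 :=
      Subtype.ext (congrArg (fun z : P => (z : Ω)) he).symm
    rw [this]
    exact CfsgLib.pow_mem_frattini_pGroup (hS.to_le (inf_le_right.trans hRS)) _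
  -- the centralizer
  have hcent : Subgroup.centralizer (X : Set P) ≤ X := by
    set W : Subgroup Ω := P ⊓ Subgroup.centralizer ((P ⊓ R : Subgroup Ω) : Set Ω) with hW
    have hWR : W ≤ R := by
      by_contra hWR
      have hRW : R ≤ Subgroup.normalizer (W : Set Ω) := by
        intro r hr'
        have hrP := hP.le_normalizer (hRS hr')
        have hrX : r ∈ Subgroup.normalizer ((P ⊓ R : Subgroup Ω) : Set Ω) := Subgroup.mem_normalizer_iff.mpr fun x =>
          and_congr (Subgroup.mem_normalizer_iff.mp hrP x) (Subgroup.mem_normalizer_iff.mp (Subgroup.le_normalizer hr') x)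
        refine Subgroup.mem_normalizer_iff.mpr fun x => and_congr (Subgroup.mem_normalizer_iff.mp hrP x) ?_
        constructor
        · intro hx
          refine Subgroup.mem_centralizer_iff.mpr fun y hy => ?_
          have h1 := Subgroup.mem_centralizer_iff.mp hx (r⁻¹ * y * r)
            ((Subgroup.mem_normalizer_iff.mp hrX _).mpr (by simpa [mul_assoc] using hy))
          calc y * (r * x * r⁻¹) = r * ((r⁻¹ * y * r) * x) * r⁻¹ := by group
            _ = r * (x * (r⁻¹ * y * r)) * r⁻¹ := by rw [h1]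
            _ = r * x * r⁻¹ * y := by group
        · intro hx
          refine Subgroup.mem_centralizer_iff.mpr fun y hy => ?_
          have h1 := Subgroup.mem_centralizer_iff.mp hx (r * y * r⁻¹) ((Subgroup.mem_normalizer_iff.mp hrX y).mp hy)
          calc y * x = r⁻¹ * ((r * y * r⁻¹) * (r * x * r⁻¹)) * r := by group
            _ = r⁻¹ * ((r * x * r⁻¹) * (r * y * r⁻¹)) * r := by rw [h1]
            _ = x * y := by group
      obtain ⟨w, hw, hwN, hwR⟩ := exists_step hS hRS (inf_le_left.trans hP.1) hRW hWR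
      obtain ⟨u, hu, hsq⟩ := hkey hw.1 hwN hwR
      refine hsq 1 X.one_mem (Subtype.ext ?_)
      show (1 : Ω) ^ 2 = w * (u : Ω) * w⁻¹ * (u : Ω)⁻¹
      rw [← Subgroup.mem_centralizer_iff.mp hw.2 u ⟨u.2, hXmem.mp hu⟩, one_pow]
      group
    intro x hx
    exact hXmem.mpr (hWR ⟨x.2, Subgroup.mem_centralizer_iff.mpr fun y hy =>
      congrArg Subtype.val (Subgroup.mem_centralizer_iff.mp hx ⟨y, hy.1⟩ (hXmem.mpr hy.2))⟩)
  obtain ⟨k, hk⟩ := hPp.exists_card_eq
  have hlt : X < ⊤ := lt_of_le_of_ne le_top fun h => hgR (hXmem.mp (h ▸ Subgroup.mem_top (⟨g, hgP⟩ : P)))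
  have hk3 : 4 ≤ Nat.card X → 3 ≤ k := fun h4 => by
    by_contra hk3
    have h1 := Subgroup.card_subgroup_dvd_card X
    have h2 : Nat.card X ≠ Nat.card P := fun e => hlt.ne (Subgroup.eq_top_of_card_eq X e)
    rw [hk] at h1 h2
    have h3 := Nat.le_of_dvd (Nat.two_pow_pos k) h1
    have : 2 ^ k ≤ 2 ^ 2 := Nat.pow_le_pow_right two_pos (by omega)
    omega
  rcases CfsgLib.MetacyclicTwo.quaternion_or_homocyclic (hPp.to_subgroup X)
      (CfsgLib.MetaAction.isMetacyclic_subgroup hm X) hAutX with ⟨⟨e⟩⟩ | ⟨n, ⟨e⟩⟩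
  · have h8 : Nat.card X = 2 ^ 3 := by rw [Nat.card_congr e.toEquiv, Nat.card_eq_fintype_card, QuaternionGroup.card]; rfl
    have hna : ¬ IsMulCommutative X := by
      intro h
      have := congrArg e (mul_comm' (e.symm (QuaternionGroup.a 1)) (e.symm (QuaternionGroup.xa 0)))
      rw [map_mul, map_mul, e.apply_symm_apply, e.apply_symm_apply, QuaternionGroup.a_mul_xa, QuaternionGroup.xa_mul_a] at this
      exact absurd this (by decide)
    exact hclass k (hk3 (by omega)) hk (Cfsg.Agent.S4143.result k hk X h8 hna hcent)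
  · rcases Nat.lt_or_ge n 2 with hn | hn
    · interval_cases n
      · refine hAutX fun α => ⟨0, ?_⟩
        haveI hz : Subsingleton (ZMod (2 ^ 0)) := show Subsingleton (Fin 1) from inferInstance
        haveI : Subsingleton (Multiplicative (ZMod (2 ^ 0))) := hz
        haveI : Subsingleton X := e.toEquiv.subsingleton
        exact MulEquiv.ext fun x => Subsingleton.elim _ _
      · have h4 : Nat.card X = 2 ^ 2 := by
          rw [Nat.card_congr e.toEquiv, Nat.card_prod, Nat.card_congr Multiplicative.toAdd, Nat.card_zmod]; rfl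
        exact hclass k (hk3 (by omega)) hk (CfsgLib.MaximalClass.class_of_self_centralizing hk X h4 hcent)
    · obtain ⟨N, hN, hNc, hNq⟩ := id hm
      obtain ⟨u, hu, hsq⟩ := hkey hgP hgN hgR
      have hg2 : (⟨g, hgP⟩ : P) * ⟨g, hgP⟩ ∈ X := by
        rw [hXmem]
        by_contra hg2R
        obtain ⟨u', hu', hsq'⟩ := hkey (P.mul_mem hgP hgP) (Subgroup.mul_mem _ hgN hgN) hg2R
        obtain ⟨t, ht, hte⟩ := square_commutator N (by omega) e hPp (hnorm hgP hgN) hu'
        exact hsq' t ht hte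
      exact false_of_homocyclic N hn e (hnorm hgP hgN) (fun h => hgR (hXmem.mp h)) hg2 hu hsq

end CfsgLib.MetaTwoClosed
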