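import Cfsg.Agent.Lib.Fusion.Systems
import Cfsg.Agent.Lib.Fusion.Series
import Cfsg.Agent.Lib.Fusion.Normal
import Cfsg.Agent.Lib.Fusion.Alperin
import Cfsg.Agent.Lib.MetacyclicTwoAut
import Cfsg.Agent.Lib.MaximalClass
import Cfsg.Agent.S5212
import Cfsg.Agent.S4143
import Cfsg.Agent.S4399

/-! Strongly closed metacyclic `2`-subgroups are normal, apart from the groups of maximal class. -/

set_option autoImplicit false
set_option linter.unusedSectionVars false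

namespace CfsgLib.MetaTwoClosed

open Cfsg Cfsg.FusionSystem

/-- Non-squares of a homocyclic group have full order. -/
theorem orderOf_of_not_square {n : ℕ} (hn : 1 ≤ n) (v : Multiplicative (ZMod (2 ^ n)) × Multiplicative (ZMod (2 ^ n)))
    (h : ∀ w, w ^ 2 ≠ v) : orderOf v = 2 ^ n := by
  haveI : Fact (Nat.Prime 2) := ⟨Nat.prime_two⟩
  obtain ⟨m, rfl⟩ : ∃ m, n = m + 1 := ⟨n - 1, by omega⟩
  have hexp : ∀ a : Multiplicative (ZMod (2 ^ (m + 1))), a ^ 2 ^ (m + 1) = 1 := fun a =>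
    Multiplicative.toAdd.injective (by rw [toAdd_pow, toAdd_one, nsmul_eq_mul, ZMod.natCast_self, zero_mul])
  refine orderOf_eq_prime_pow (fun hv => ?_) (Prod.ext (hexp _) (hexp _))
  have key : ∀ a : Multiplicative (ZMod (2 ^ (m + 1))), a ^ 2 ^ m = 1 → ∃ b, b ^ 2 = a := by
    intro a ha
    have h1 : ((2 ^ m * a.toAdd.val : ℕ) : ZMod (2 ^ (m + 1))) = 0 := by
      rw [Nat.cast_mul, ZMod.natCast_zmod_val, ← nsmul_eq_mul, ← toAdd_pow, ha, toAdd_one]
    have h2 : 2 ^ m * 2 ∣ 2 ^ m * a.toAdd.val := (pow_succ 2 m) ▸ ((ZMod.natCast_eq_zero_iff _ _).mp h1)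
    obtain ⟨k, hk⟩ := (Nat.mul_dvd_mul_iff_left (Nat.two_pow_pos m)).mp h2
    refine ⟨Multiplicative.ofAdd (k : ZMod (2 ^ (m + 1))), Multiplicative.toAdd.injective ?_⟩
    rw [toAdd_pow, toAdd_ofAdd, nsmul_eq_mul, ← Nat.cast_mul, ← hk, ZMod.natCast_zmod_val]
  obtain ⟨b₁, hb₁⟩ := key v.1 (congrArg Prod.fst hv)
  obtain ⟨b₂, hb₂⟩ := key v.2 (congrArg Prod.snd hv)
  exact h (b₁, b₂) (Prod.ext hb₁ hb₂)

section Exclusion

variable {P : Type*} [Group P] [Finite P] {N : Subgroup P} [N.Normal] [IsCyclic N] [IsCyclic (P ⧸ N)]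
  {X : Subgroup P} {n : ℕ}

/-- Commutators with a homocyclic subgroup lie in the cyclic normal subgroup. -/
theorem commutator_mem_inter {g : P} (hg : g ∈ Subgroup.normalizer (X : Set P)) {u : P} (hu : u ∈ X) :
    g * u * g⁻¹ * u⁻¹ ∈ N ⊓ X := by
  refine ⟨(QuotientGroup.eq_one_iff _).mp ?_, X.mul_mem ((Subgroup.mem_normalizer_iff.mp hg u).mp hu) (X.inv_mem hu)⟩
  letI := IsCyclic.commGroup (α := P ⧸ N)
  rw [QuotientGroup.mk_mul, QuotientGroup.mk_mul, QuotientGroup.mk_mul, QuotientGroup.mk_inv, QuotientGroup.mk_inv,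
    mul_inv_cancel_comm, mul_inv_cancel]

/-- The intersection with the cyclic subgroup is generated by any non-square, and is a direct factor. -/
theorem zpowers_eq_inter (hn : 1 ≤ n) (e : ↥X ≃* Multiplicative (ZMod (2 ^ n)) × Multiplicative (ZMod (2 ^ n)))
    {v : P} (hv : v ∈ N ⊓ X) (hns : ∀ w ∈ X, w ^ 2 ≠ v) : Subgroup.zpowers v = N ⊓ X ∧ orderOf v = 2 ^ n := by
  have hX : ∀ w : X, w ^ 2 ^ n = 1 := fun w => e.injective (by
    rw [map_pow, map_one]
    exact Prod.ext (Multiplicative.toAdd.injective (by simp)) (Multiplicative.toAdd.injective (by simp)))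
  have hord : orderOf v = 2 ^ n := by
    rw [← show orderOf (⟨v, hv.2⟩ : X) = orderOf v from Subgroup.orderOf_mk v hv.2, ← e.orderOf_eq]
    refine orderOf_of_not_square hn _ fun w hw => hns _ (e.symm w).2 ?_
    rw [← SubmonoidClass.coe_pow, ← map_pow, hw, MulEquiv.symm_apply_apply]
  refine ⟨Subgroup.eq_of_le_of_card_ge (Subgroup.zpowers_le.mpr hv) ?_, hord⟩
  rw [Nat.card_zpowers, hord]
  haveI : IsCyclic ↥(N ⊓ X) := isCyclic_of_injective (Subgroup.inclusion inf_le_left)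
    (Subgroup.inclusion_injective _)
  obtain ⟨⟨c, hc⟩, hgen⟩ := IsCyclic.exists_generator (α := ↥(N ⊓ X))
  rw [← orderOf_eq_card_of_forall_mem_zpowers hgen, Subgroup.orderOf_mk]
  refine Nat.le_of_dvd (Nat.two_pow_pos n) (orderOf_dvd_of_pow_eq_one ?_)
  exact congrArg Subtype.val (hX ⟨c, hc.2⟩)

/-- The square of a normalizing element is trivial modulo squares. -/
theorem square_commutator (N : Subgroup P) [N.Normal] [IsCyclic N] [IsCyclic (P ⧸ N)] (hn : 1 ≤ n) (e : ↥X ≃* Multiplicative (ZMod (2 ^ n)) × Multiplicative (ZMod (2 ^ n)))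
    (hP : IsPGroup 2 P) {g : P} (hg : g ∈ Subgroup.normalizer (X : Set P)) {u : P} (hu : u ∈ X) :
    ∃ w ∈ X, w ^ 2 = g * g * u * (g * g)⁻¹ * u⁻¹ := by
  by_cases hsq : ∀ u' ∈ X, ∃ w ∈ X, w ^ 2 = g * u' * g⁻¹ * u'⁻¹
  · obtain ⟨w₁, hw₁, h1⟩ := hsq u hu
    obtain ⟨w₂, hw₂, h2⟩ := hsq _ ((Subgroup.mem_normalizer_iff.mp hg u).mp hu)
    refine ⟨w₂ * w₁, X.mul_mem hw₂ hw₁, ?_⟩
    have hcomm : w₂ * w₁ = w₁ * w₂ := congrArg Subtype.val (e.injective (by
      rw [map_mul, map_mul, mul_comm]) : (⟨w₂, hw₂⟩ : X) * ⟨w₁, hw₁⟩ = ⟨w₁, hw₁⟩ * ⟨w₂, hw₂⟩)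
    rw [(show Commute w₂ w₁ from hcomm).mul_pow, h1, h2]
    group
  · push Not at hsq
    obtain ⟨u', hu', hns⟩ := hsq
    obtain ⟨hz, -⟩ := zpowers_eq_inter hn e (commutator_mem_inter (N := N) hg hu') hns
    set v := g * u' * g⁻¹ * u'⁻¹
    obtain ⟨i, hi⟩ : g * u * g⁻¹ * u⁻¹ ∈ Subgroup.zpowers v := hz ▸ commutator_mem_inter (N := N) hg hu
    obtain ⟨μ, hμ⟩ : g * v * g⁻¹ * v⁻¹ ∈ Subgroup.zpowers v :=
      hz ▸ commutator_mem_inter (N := N) hg (commutator_mem_inter (N := N) hg hu').2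
    have hgv : g * v * g⁻¹ = v ^ (μ + 1) := by
      rw [zpow_add_one, show v ^ μ = g * v * g⁻¹ * v⁻¹ from hμ, inv_mul_cancel_right]
    -- the exponent of the action on `v` is odd
    have hμeven : Even μ := by
      by_contra hodd
      rw [Int.not_even_iff_odd] at hodd
      obtain ⟨k, hk⟩ := hP g
      have hit : ∀ j : ℕ, g ^ j * v * (g ^ j)⁻¹ = v ^ ((μ + 1) ^ j) := by
        intro j
        induction j with
        | zero => simp
        | succ j ih =>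
          rw [pow_succ', mul_inv_rev, show g * g ^ j * v * ((g ^ j)⁻¹ * g⁻¹) = g * (g ^ j * v * (g ^ j)⁻¹) * g⁻¹ by group,
            ih, ← conj_zpow, hgv, ← zpow_mul, ← pow_succ']
      have h1 := hit (2 ^ k)
      rw [hk, one_mul, inv_one, mul_one] at h1
      have h2 : ((orderOf v : ℤ)) ∣ (μ + 1) ^ 2 ^ k - 1 :=
        orderOf_dvd_iff_zpow_eq_one.mpr (by rw [zpow_sub, ← h1, zpow_one, mul_inv_cancel])
      obtain ⟨-, hord⟩ := zpowers_eq_inter hn e (commutator_mem_inter (N := N) hg hu') hns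
      rw [hord] at h2
      have h3 : (2 : ℤ) ∣ (μ + 1) ^ 2 ^ k - 1 := (dvd_pow_self 2 (by omega : n ≠ 0)).trans (by exact_mod_cast h2)
      have h4 : Even ((μ + 1) ^ 2 ^ k) := Int.even_pow.mpr ⟨hodd.add_one, (Nat.two_pow_pos k).ne'⟩
      obtain ⟨c, hc⟩ := h3
      obtain ⟨d, hd⟩ := h4
      omega
    obtain ⟨d, hd⟩ := hμeven
    refine ⟨v ^ (i * (d + 1)), X.zpow_mem (commutator_mem_inter (N := N) hg hu').2 _, ?_⟩
    have hi' : g * u * g⁻¹ * u⁻¹ = v ^ i := hi.symm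
    calc (v ^ (i * (d + 1))) ^ 2 = v ^ ((μ + 1) * i + i) := by rw [← zpow_natCast, ← zpow_mul, hd]; congr 1; push_cast; ring
      _ = (g * v * g⁻¹) ^ i * v ^ i := by rw [zpow_add, zpow_mul, hgv]
      _ = g * (g * u * g⁻¹ * u⁻¹) * g⁻¹ * (g * u * g⁻¹ * u⁻¹) := by rw [conj_zpow, hi']
      _ = g * g * u * (g * g)⁻¹ * u⁻¹ := by group

/-- A homocyclic subgroup of exponent at least `4` is not normalized by an element outside acting nontrivially
modulo squares. -/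
theorem false_of_homocyclic (N : Subgroup P) [N.Normal] [IsCyclic N] [IsCyclic (P ⧸ N)] (hn : 2 ≤ n) (e : ↥X ≃* Multiplicative (ZMod (2 ^ n)) × Multiplicative (ZMod (2 ^ n)))
    {g : P} (hg : g ∈ Subgroup.normalizer (X : Set P)) (hgX : g ∉ X) (hg2 : g * g ∈ X)
    {u : P} (hu : u ∈ X) (hns : ∀ w ∈ X, w ^ 2 ≠ g * u * g⁻¹ * u⁻¹) : False := by
  have hab : ∀ a ∈ X, ∀ b ∈ X, a * b = b * a := fun a ha b hb => congrArg Subtype.val
    (e.injective (by rw [map_mul, map_mul, mul_comm]) : (⟨a, ha⟩ : X) * ⟨b, hb⟩ = ⟨b, hb⟩ * ⟨a, ha⟩)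
  have hv := commutator_mem_inter (N := N) hg hu
  obtain ⟨hz, hord⟩ := zpowers_eq_inter (by omega) e hv hns
  set v := g * u * g⁻¹ * u⁻¹ with hvdef
  obtain ⟨μ, hμ⟩ : g * v * g⁻¹ * v⁻¹ ∈ Subgroup.zpowers v := hz ▸ commutator_mem_inter (N := N) hg hv.2
  by_cases hgK : ∃ y ∈ X, g * y⁻¹ ∈ N
  · obtain ⟨y, hy, hk⟩ := hgK
    set k := g * y⁻¹ with hkdef
    haveI : IsMulCommutative N := ⟨⟨fun a b => by
      letI := IsCyclic.commGroup (α := N)
      exact mul_comm a b⟩⟩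
    have hkv : k * v = v * k := congrArg Subtype.val (mul_comm' (⟨k, hk⟩ : N) ⟨v, hv.1⟩)
    have hgky : g = k * y := by rw [hkdef, inv_mul_cancel_right]
    have hku : k * u * k⁻¹ * u⁻¹ = v := by
      rw [hvdef, hgky, show k * y * u * (k * y)⁻¹ = k * (y * u * y⁻¹) * k⁻¹ by group, hab y hy u hu, mul_inv_cancel_right]
    have hkk : k * k ∈ X := by
      have h3 : g * y⁻¹ * g⁻¹ ∈ X := (Subgroup.mem_normalizer_iff.mp hg _).mp (X.inv_mem hy)
      rw [show k * k = (g * y⁻¹ * g⁻¹) * (g * g) * y⁻¹ by rw [hkdef]; group]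
      exact X.mul_mem (X.mul_mem h3 hg2) (X.inv_mem hy)
    have h1 : v ^ 2 = 1 := by
      have hk2 : k * k * u * (k * k)⁻¹ * u⁻¹ = 1 := by rw [hab _ hkk u hu]; group
      calc v ^ 2 = v * (k * v * k⁻¹) := by rw [hkv, mul_inv_cancel_right, sq]
        _ = (k * v * k⁻¹) * v := by rw [hkv, mul_inv_cancel_right]
        _ = k * k * u * (k * k)⁻¹ * u⁻¹ := by rw [← hku]; group
        _ = 1 := hk2
    have h2 := orderOf_dvd_of_pow_eq_one h1
    rw [hord] at h2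
    have h3 := Nat.le_of_dvd two_pos h2
    have : 2 ^ 2 ≤ 2 ^ n := Nat.pow_le_pow_right two_pos hn
    omega
  · push Not at hgK
    letI := IsCyclic.commGroup (α := P ⧸ N)
    set π := QuotientGroup.mk' N
    have hker : ∀ {a}, π a = 1 ↔ a ∈ N := fun {a} => QuotientGroup.eq_one_iff a
    -- the image of `X` together with `g`
    let W : Subgroup (P ⧸ N) := X.map π ⊔ Subgroup.zpowers (π g)
    haveI : IsCyclic W := isCyclic_of_injective W.subtype W.subtype_injective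
    obtain ⟨⟨w, hw⟩, hwgen⟩ := IsCyclic.exists_generator (α := W)
    have hWmem : ∀ x ∈ W, x ∈ Subgroup.zpowers w := fun x hx => by
      obtain ⟨j, hj⟩ := hwgen ⟨x, hx⟩
      exact ⟨j, congrArg Subtype.val hj⟩
    obtain ⟨a, ha, b, hb, hab'⟩ := Subgroup.mem_sup.mp hw
    obtain ⟨x₀, hx₀, rfl⟩ := ha
    obtain ⟨j, rfl⟩ := hb
    have hjodd : Odd j := by
      rw [← Int.not_even_iff_odd]
      rintro ⟨c, rfl⟩
      have hwX : w ∈ X.map π := by
        rw [← hab']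
        refine (X.map π).mul_mem ⟨x₀, hx₀, rfl⟩ ?_
        show π g ^ (c + c) ∈ X.map π
        rw [← two_mul, zpow_mul, zpow_two, ← map_mul]
        exact Subgroup.zpow_mem _ (Subgroup.mem_map_of_mem π hg2) c
      obtain ⟨y, hy, he⟩ := (Subgroup.zpowers_le.mpr hwX) (hWmem _ (Subgroup.mem_sup_right (Subgroup.mem_zpowers (π g))))
      exact hgK y hy (hker.mp (by rw [map_mul, map_inv, he, mul_inv_cancel]))
    -- the generator of the image of `X` is a power of the image of `g ^ 2`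
    obtain ⟨i, hi⟩ := hWmem _ (Subgroup.mem_sup_left ⟨u, hu, rfl⟩)
    have hi' : π u = π (x₀ * g ^ j) ^ i := by rw [map_mul, map_zpow]; exact (hi.symm.trans (by rw [hab']))
    set h := x₀ * g ^ j with hh
    have hgg : g ^ j * g ^ j ∈ X := by
      rw [← zpow_add, ← two_mul, zpow_mul, zpow_two]
      exact X.zpow_mem hg2 _
    have hgjN : g ^ j ∈ Subgroup.normalizer (X : Set P) := Subgroup.zpow_mem _ hg j
    have hhh : h * h ∈ X := by
      rw [hh, show x₀ * g ^ j * (x₀ * g ^ j) = x₀ * (g ^ j * x₀ * (g ^ j)⁻¹) * (g ^ j * g ^ j) by group]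
      exact X.mul_mem (X.mul_mem hx₀ ((Subgroup.mem_normalizer_iff.mp hgjN _).mp hx₀)) hgg
    have hieven : Even i := by
      rw [← Int.not_odd_iff_even]
      rintro ⟨c, rfl⟩
      -- then `g` lies in `N X`
      have hhX : π h ∈ X.map π := by
        have : π h = π u * ((π (h * h)) ^ c)⁻¹ := by
          rw [hi', map_mul π h h, ← zpow_two, ← zpow_mul, ← zpow_neg, ← zpow_add]
          rw [show 2 * c + 1 + -(2 * c) = 1 by ring, zpow_one]
        rw [this]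
        exact (X.map π).mul_mem ⟨u, hu, rfl⟩ ((X.map π).inv_mem ((X.map π).zpow_mem ⟨_, hhh, rfl⟩ c))
      obtain ⟨d, rfl⟩ := hjodd
      have hgX' : π g ∈ X.map π := by
        have : π g = (π x₀)⁻¹ * π h * ((π (g * g)) ^ d)⁻¹ := by
          rw [hh, map_mul, map_zpow, inv_mul_cancel_left, map_mul π g g, ← zpow_two, ← zpow_mul, ← zpow_neg, ← zpow_add]
          rw [show 2 * d + 1 + -(2 * d) = 1 by ring, zpow_one]
        rw [this]
        exact (X.map π).mul_mem ((X.map π).mul_mem ((X.map π).inv_mem ⟨x₀, hx₀, rfl⟩) hhX)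
          ((X.map π).inv_mem ((X.map π).zpow_mem ⟨_, hg2, rfl⟩ d))
      obtain ⟨y, hy, he⟩ := hgX'
      exact hgK y hy (hker.mp (by rw [map_mul, map_inv, he, mul_inv_cancel]))
    obtain ⟨c, rfl⟩ := hieven
    set q := (h * h) ^ c with hq
    have hqX : q ∈ X := X.zpow_mem hhh c
    have hqh : h * q * h⁻¹ = q := by
      rw [hq, ← conj_zpow]
      congr 1
      group
    have huN : u * q⁻¹ ∈ N ⊓ X := ⟨hker.mp (by
      rw [map_mul, map_inv, hi', hq, map_zpow, map_mul π h h, ← zpow_two, ← zpow_mul, two_mul, mul_inv_cancel]),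
      X.mul_mem hu (X.inv_mem hqX)⟩
    obtain ⟨l, hl⟩ : u * q⁻¹ ∈ Subgroup.zpowers v := hz ▸ huN
    -- the action of `g` on `q` is that of `h`
    have hgact : ∀ z ∈ X, h * z * h⁻¹ = g ^ j * z * (g ^ j)⁻¹ := by
      intro z hz'
      have h3 := (Subgroup.mem_normalizer_iff.mp hgjN z).mp hz'
      rw [hh, show x₀ * g ^ j * z * (x₀ * g ^ j)⁻¹ = x₀ * (g ^ j * z * (g ^ j)⁻¹) * x₀⁻¹ by group, hab x₀ hx₀ _ h3,
        mul_inv_cancel_right]
    have hgq : g * q * g⁻¹ = q := by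
      obtain ⟨d, hd⟩ := hjodd
      have h4 := hgact q hqX
      rw [hqh, hd, zpow_add_one, zpow_mul, zpow_two] at h4
      have h5 : (g * g) ^ d ∈ X := X.zpow_mem hg2 d
      have h6 : g * q * g⁻¹ ∈ X := (Subgroup.mem_normalizer_iff.mp hg q).mp hqX
      rw [show (g * g) ^ d * g * q * ((g * g) ^ d * g)⁻¹ = (g * g) ^ d * (g * q * g⁻¹) * ((g * g) ^ d)⁻¹ by group,
        hab _ h5 _ h6, mul_inv_cancel_right] at h4
      exact h4.symm
    have hl' : u * q⁻¹ = v ^ l := hl.symm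
    have hu' : u = v ^ l * q := by rw [← hl', inv_mul_cancel_right]
    have hgv : g * v * g⁻¹ = v ^ (μ + 1) := by
      rw [zpow_add_one, show v ^ μ = g * v * g⁻¹ * v⁻¹ from hμ, inv_mul_cancel_right]
    have hvu : v = v ^ (μ * l) := by
      calc v = g * u * g⁻¹ * u⁻¹ := hvdef
        _ = (g * v * g⁻¹) ^ l * (g * q * g⁻¹) * (v ^ l * q)⁻¹ := by rw [hu', conj_zpow]; group
        _ = v ^ ((μ + 1) * l) * (v ^ l)⁻¹ := by rw [hgq, hgv, ← zpow_mul]; group
        _ = v ^ (μ * l) := by rw [← zpow_neg, ← zpow_add]; congr 1; ring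
    -- `μ` is even
    have hμeven : Even μ := by
      obtain ⟨w', hw', hsq⟩ : ∃ w ∈ X, w ^ 2 = g * g * v * (g * g)⁻¹ * v⁻¹ := ⟨1, X.one_mem, by
        rw [one_pow, hab _ hg2 v hv.2]; group⟩
      have h7 : v ^ ((μ + 1) * (μ + 1)) = v := by
        rw [zpow_mul, ← hgv, conj_zpow, ← hgv]
        rw [show g * (g * v * g⁻¹) * g⁻¹ = (g * g) * v * (g * g)⁻¹ by group, hab _ hg2 v hv.2, mul_inv_cancel_right]
      have h8 : ((2 ^ n : ℕ) : ℤ) ∣ (μ + 1) * (μ + 1) - 1 := hord ▸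
        orderOf_dvd_iff_zpow_eq_one.mpr (by rw [zpow_sub, h7, zpow_one, mul_inv_cancel])
      have h9 : (2 : ℤ) ∣ (μ + 1) * (μ + 1) - 1 := (dvd_pow_self 2 (by omega : n ≠ 0)).trans (by exact_mod_cast h8)
      by_contra hodd
      rw [Int.not_even_iff_odd] at hodd
      obtain ⟨r, hr⟩ := hodd.add_one.mul_right (μ + 1)
      obtain ⟨r', hr'⟩ := h9
      omega
    have h10 : ((2 ^ n : ℕ) : ℤ) ∣ μ * l - 1 := hord ▸
      orderOf_dvd_iff_zpow_eq_one.mpr (by rw [zpow_sub, ← hvu, zpow_one, mul_inv_cancel])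
    obtain ⟨r, hr⟩ := hμeven.mul_right l
    obtain ⟨r', hr'⟩ := (dvd_pow_self (2 : ℤ) (by omega : n ≠ 0)).trans (show (2 : ℤ) ^ n ∣ μ * l - 1 by exact_mod_cast h10)
    omega

end Exclusion

section Fusion

variable {Ω : Type*} [Group Ω] {S : Subgroup Ω} [Finite S] {F : FusionSystem S} {P R : Subgroup Ω}

/-- The basic step: an element of `P` normalizing `R` and stabilizing the chain up to a `2`-group lies in `R`. -/
theorem key (hS : IsPGroup 2 S) (hP : F.StronglyClosed P) (hc : F.IsCentric R) (hr : F.IsRadical 2 R)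
    {g : Ω} (hgP : g ∈ P) (hgN : g ∈ Subgroup.normalizer (R : Set Ω)) (hgR : g ∉ R) :
    ¬ IsPGroup 2 (MulAut ↥(P ⊓ R)) ∧
      ∃ u : ↥(P ⊓ R), ∀ h : g * (u : Ω) * g⁻¹ ∈ P ⊓ R, (⟨_, h⟩ : ↥(P ⊓ R)) * u⁻¹ ∉ frattini ↥(P ⊓ R) := by
  classical
  have hRS : R ≤ S := hc.1
  haveI : Fact (Nat.Prime 2) := ⟨Nat.prime_two⟩
  haveI : Finite R := finite_of_le hRS
  haveI := finite_autGroup (F := F) hRS
  haveI : Finite ↥(P ⊓ R) := finite_of_le (inf_le_right.trans hRS)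
  haveI : Finite (MulAut ↥(P ⊓ R)) := Finite.of_injective (fun f : MulAut ↥(P ⊓ R) => (f : ↥(P ⊓ R) → ↥(P ⊓ R))) DFunLike.coe_injective
  have hPsc : ∀ {α : MulAut R}, α ∈ F.autGroup R → ∀ {x : R}, (x : Ω) ∈ P → ((α x : R) : Ω) ∈ P := by
    intro α hα x hx
    obtain ⟨φ, hφ, -, he⟩ := F.exists_map_of_mem_autGroup hRS hα
    rw [← he]
    exact hP.2 (P ⊓ R) inf_le_left _ (F.restrict_mem hφ inf_le_right) ⟨x, hx, x.2⟩
  let res : F.autGroup R →* MulAut ↥(P ⊓ R) :=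
    { toFun := fun a =>
        { toFun := fun x => ⟨((a : MulAut R) ⟨x, x.2.2⟩ : R), hPsc a.2 x.2.1, SetLike.coe_mem _⟩
          invFun := fun x => ⟨(((a : MulAut R)⁻¹) ⟨x, x.2.2⟩ : R), hPsc (a⁻¹).2 x.2.1, SetLike.coe_mem _⟩
          left_inv := fun x => Subtype.ext (by simp)
          right_inv := fun x => Subtype.ext (by simp)
          map_mul' := fun x y => Subtype.ext (by
            show (((a : MulAut R) (⟨x, x.2.2⟩ * ⟨y, y.2.2⟩) : R) : Ω) = _
            rw [map_mul]; rfl) }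
      map_one' := MulEquiv.ext fun x => Subtype.ext rfl
      map_mul' := fun a b => MulEquiv.ext fun x => Subtype.ext rfl }
  let K : Subgroup (F.autGroup R) :=
    { carrier := {a | ∀ x : R, ((x⁻¹ * (a : MulAut R) x : R) : Ω) ∈ P}
      one_mem' := fun x => by simp
      mul_mem' := fun {a b} ha hb x => by
        have h2 := P.mul_mem (hb x) (ha ((b : MulAut R) x))
        simpa [MulAut.mul_apply, mul_assoc] using h2
      inv_mem' := fun {a} ha x => by
        have h2 := P.inv_mem (ha ((a : MulAut R)⁻¹ x))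
        simpa using h2 }
  have hKn : K.Normal := ⟨fun a ha b x => by
    have h2 := hPsc b.2 (ha ((b : MulAut R)⁻¹ x))
    simpa [MulAut.mul_apply] using h2⟩
  have hker : IsPGroup 2 ↥(K ⊓ res.ker) := by
    have hmap : IsPGroup 2 ↥((K ⊓ res.ker).map (F.autGroup R).subtype) := by
      refine isPGroup_of_stabilises (hS.to_le hRS) ![⊥, (P ⊓ R).subgroupOf R, ⊤] rfl rfl _ ?_
      rintro _ ⟨a, ⟨haK, haker⟩, rfl⟩ i x hx
      fin_cases i
      · change x ∈ (P ⊓ R).subgroupOf R at hx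
        show _ ∈ (⊥ : Subgroup R)
        rw [Subgroup.mem_bot, inv_mul_eq_one]
        exact Subtype.ext (congrArg (fun f : MulAut ↥(P ⊓ R) => ((f ⟨x, hx⟩ : ↥(P ⊓ R)) : Ω)) haker).symm
      · exact ⟨haK x, (x⁻¹ * (a : MulAut R) x).2⟩
    exact hmap.of_equiv (Subgroup.equivMapOfInjective _ _ Subtype.coe_injective).symm
  have hcg : R.normalizerMonoidHom ⟨g, hgN⟩ ∈ F.autGroup R :=
    autInducedBy_le_autGroup hRS (mem_autInducedBy_iff.mpr ⟨g, hP.1 hgP, hgN, fun _ => rfl⟩)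
  set c : F.autGroup R := ⟨_, hcg⟩ with hcdef
  have hcK : c ∈ K := fun x => by
    show (x : Ω)⁻¹ * (g * x * g⁻¹) ∈ P
    have h1 : (x : Ω)⁻¹ * g * x ∈ P := by
      have := (Subgroup.mem_normalizer_iff.mp (hP.le_normalizer (S.inv_mem (hRS x.2))) g).mp hgP
      simpa using this
    simpa [mul_assoc] using P.mul_mem h1 (P.inv_mem hgP)
  -- a normal subgroup of `K` with `2`-image cannot contain `c`
  have main : ∀ M : Subgroup (MulAut ↥(P ⊓ R)), (M.comap res).Normal → IsPGroup 2 M → res c ∉ M := by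
    intro M hMn hM hcM
    have hn : (K ⊓ M.comap res).Normal := inferInstance
    have hp : IsPGroup 2 ↥(K ⊓ M.comap res) := by
      rintro ⟨a, haK, haM⟩
      obtain ⟨i, hi⟩ := hM ⟨res a, haM⟩
      obtain ⟨j, hj⟩ := hker ⟨a ^ 2 ^ i, K.pow_mem haK _, by
        show res (a ^ 2 ^ i) = 1; rw [map_pow]; exact congrArg Subtype.val hi⟩
      refine ⟨i + j, Subtype.ext ?_⟩
      show a ^ 2 ^ (i + j) = 1
      rw [pow_add, pow_mul]
      exact congrArg Subtype.val hj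
    obtain ⟨u, hu⟩ := hr.2.le ⟨c, CfsgLib.le_pCore hp ⟨hcK, hcM⟩, rfl⟩
    refine hgR ?_
    have hz : (u : Ω)⁻¹ * g ∈ centralizerIn S R := by
      refine ⟨S.mul_mem (S.inv_mem (hRS u.2)) (hP.1 hgP), Subgroup.mem_centralizer_iff.mpr fun y hy => ?_⟩
      have h1 : (u : Ω) * y * (u : Ω)⁻¹ = g * y * g⁻¹ := congrArg (fun f : MulAut R => ((f ⟨y, hy⟩ : R) : Ω)) hu
      calc y * ((u : Ω)⁻¹ * g) = (u : Ω)⁻¹ * ((u : Ω) * y * (u : Ω)⁻¹) * g := by group
        _ = (u : Ω)⁻¹ * g * y := by rw [h1]; group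
    have := R.mul_mem u.2 (hc.centralizerIn_le_self hz)
    rwa [mul_inv_cancel_left] at this
  refine ⟨fun h2 => main ⊤ (by rw [Subgroup.comap_top]; infer_instance) (h2.to_subgroup _) (Subgroup.mem_top _), ?_⟩
  let T : Subgroup (MulAut ↥(P ⊓ R)) :=
    { carrier := {α | ∀ x, α x * x⁻¹ ∈ frattini ↥(P ⊓ R)}
      one_mem' := fun x => by simp
      mul_mem' := fun {α β} ha hb x => by
        have h2 := (frattini ↥(P ⊓ R)).mul_mem (ha (β x)) (hb x)
        simpa [MulAut.mul_apply, mul_assoc] using h2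
      inv_mem' := fun {α} ha x => by
        have h2 := (frattini ↥(P ⊓ R)).inv_mem (ha (α⁻¹ x))
        simpa using h2 }
  have hTn : T.Normal := ⟨fun α ha β x => by
    have h2 := ha (β⁻¹ x)
    have h3 := (Subgroup.characteristic_iff_map_le.mp (inferInstance : (frattini ↥(P ⊓ R)).Characteristic)) β
      ⟨_, h2, rfl⟩
    simpa [MulAut.mul_apply] using h3⟩
  have hTp : IsPGroup 2 T := by
    rintro ⟨α, hα⟩
    obtain ⟨k, m, hm2, hk⟩ := Nat.exists_eq_pow_mul_and_not_dvd (orderOf_pos α).ne' 2 (by norm_num)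
    refine ⟨k, Subtype.ext ?_⟩
    refine CfsgLib.MetacyclicTwo.eq_one_of_trivial_mod_frattini (hS.to_le (inf_le_right.trans hRS)) _ ?_ (T.pow_mem hα _)
    show Odd (orderOf (α ^ 2 ^ k))
    rw [orderOf_pow' _ (pow_ne_zero _ two_ne_zero), hk, Nat.gcd_mul_right_left, Nat.mul_div_cancel_left _ (Nat.two_pow_pos _)]
    exact Nat.odd_iff.2 (Nat.two_dvd_ne_zero.1 hm2)
  by_contra hno
  push Not at hno
  refine main T (hTn.comap res) hTp fun x => ?_
  obtain ⟨h, hh⟩ := hno x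
  exact hh

end Fusion

end CfsgLib.MetaTwoClosed
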